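import Groth.Agent.QCoh.AnnIdeal
import Groth.Agent.QCoh.LocFree
import Groth.Agent.QCoh.TensorUnit
import Groth.Agent.RGLib.Lim8LocFree
import Groth.Agent.ExistEasy.PP.PullSec

/-!
# The vanishing ideal of a homomorphism into a locally free module
-/

universe u

set_option autoImplicit false
set_option backward.isDefEq.respectTransparency false
set_option backward.isDefEq.respectTransparency.types false

open CategoryTheory CategoryTheory.Limits AlgebraicGeometry TopologicalSpace Opposite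

noncomputable section

namespace RepFZero

open Groth.Agent

variable {S T : Scheme.{u}} {E F : S.Modules}

/-- The ideal generated by the coordinates of the image of `v` on an affine open. -/
def coordIdeal (v : E ⟶ F) (U : S.Opens) : Ideal Γ(S, U) :=
  Ideal.span {a | ∃ (l : Module.Dual Γ(S, U) Γ(F, U)) (x : Γ(E, U)), a = l (v.app U x)}

theorem baseChange_eq_zero_iff {A B M N : Type u} [CommRing A] [CommRing B] [Algebra A B]
    [AddCommGroup M] [Module A M] [Module.Finite A M] [Module.Projective A M] [AddCommGroup N]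
    [Module A N] [Module B N] [IsScalarTower A B N] {l : M →ₗ[A] N} (h : IsBaseChange B l) (y : M) :
    l y = 0 ↔ ∀ φ : Module.Dual A M, algebraMap A B (φ y) = 0 := by
  refine ⟨fun hy φ => ?_, fun hy => ?_⟩
  · have := h.lift_eq ((Algebra.linearMap A B).comp φ) y
    rw [hy, map_zero] at this
    exact this.symm
  · obtain ⟨n, f, g, -, -, hfg⟩ := Module.Finite.exists_comp_eq_id_of_projective A M
    have : y = ∑ i, g y i • f (Pi.single i 1) := by
      conv_lhs => rw [show y = f (g y) from (LinearMap.congr_fun hfg y).symm, pi_eq_sum_univ (g y)]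
      simp only [map_sum, map_smul]
      refine Finset.sum_congr rfl fun i _ => ?_
      congr 2
      funext j
      simp [Pi.single_apply, eq_comm]
    rw [this, map_sum]
    refine Finset.sum_eq_zero fun i _ => ?_
    rw [map_smul, algebra_compatible_smul B, show algebraMap A B (g y i) = 0 from
      hy ((LinearMap.proj i).comp g), zero_smul]

theorem app_eq_zero_iff (hE : Coh.IsQCoh E) (hF : FlatMod.IsFinLocFree F) (v : E ⟶ F) (f : T ⟶ S)
    {U : S.Opens} (hU : IsAffineOpen U) {W : T.Opens} (hW : IsAffineOpen W) (hle : W ≤ f ⁻¹ᵁ U) :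
    (∀ s, ((Scheme.Modules.pullback f).map v).app W s = 0) ↔
      coordIdeal v U ≤ RingHom.ker (f.appLE U W hle).hom := by
  have hfp := QCoh.isFP_of_isFinLocFree hF
  have hFq := QCoh.isQCoh_of_isFP hfp
  haveI := QCoh.finite_of_isFT hFq (QCoh.isFT_of_isFP hfp) hU
  haveI := RGLib.Lim8.projective_sections hF hU
  letI : Algebra Γ(S, U) Γ(T, W) := (f.appLE U W hle).hom.toAlgebra
  letI : Module Γ(S, U) Γ((Scheme.Modules.pullback f).obj F, W) :=
    Module.compHom _ (f.appLE U W hle).hom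
  haveI : IsScalarTower Γ(S, U) Γ(T, W) Γ((Scheme.Modules.pullback f).obj F, W) :=
    ⟨fun a b c => mul_smul ((f.appLE U W hle).hom a) b c⟩
  letI : Module Γ(S, U) Γ((Scheme.Modules.pullback f).obj E, W) :=
    Module.compHom _ (f.appLE U W hle).hom
  haveI : IsScalarTower Γ(S, U) Γ(T, W) Γ((Scheme.Modules.pullback f).obj E, W) :=
    ⟨fun a b c => mul_smul ((f.appLE U W hle).hom a) b c⟩
  obtain ⟨lF, hlF, hbF⟩ := ExistEasy.exists_pullSec_baseChange f hFq hW hU hle
  obtain ⟨lE, hlE, hbE⟩ := ExistEasy.exists_pullSec_baseChange f hE hW hU hle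
  have hnat : ∀ x, ((Scheme.Modules.pullback f).map v).app W (lE x) = lF (v.app U x) := fun x => by
    rw [hlE, hlF, ExistEasy.pullSec_natural]
  rw [coordIdeal, Ideal.span_le]
  refine ⟨fun h a ⟨φ, x, ha⟩ => ?_, fun h s => ?_⟩
  · rw [ha]
    exact (baseChange_eq_zero_iff hbF (v.app U x)).1 (by rw [← hnat]; exact h _) φ
  · induction s using hbE.inductionOn with
    | zero => exact map_zero _
    | tmul x => rw [hnat, baseChange_eq_zero_iff hbF]; exact fun φ => h ⟨φ, x, rfl⟩
    | smul b s hs => rw [Scheme.Modules.Hom.app_smul, hs, smul_zero]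
    | add s t hs ht => rw [map_add, hs, ht, add_zero]

theorem pullback_map_eq_zero_iff (hE : Coh.IsQCoh E) (hF : FlatMod.IsFinLocFree F) (v : E ⟶ F) (f : T ⟶ S) :
    (Scheme.Modules.pullback f).map v = 0 ↔
      ∀ (U : S.affineOpens) (W : T.affineOpens) (hle : W.1 ≤ f ⁻¹ᵁ U.1),
        coordIdeal v U ≤ RingHom.ker (f.appLE U W hle).hom := by
  refine ⟨fun h U W hle => (app_eq_zero_iff hE hF v f U.2 W.2 hle).1 fun s => by rw [h]; rfl, fun h => ?_⟩
  refine QCoh.hom_ext_app fun V s => ?_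
  let N := (Scheme.Modules.pullback f).obj F
  have key : ∀ x : V, ∃ W : T.Opens, x.1 ∈ W ∧ W ≤ V ∧
      ∀ t, ((Scheme.Modules.pullback f).map v).app W t = 0 := by
    intro x
    obtain ⟨U, hU, hxU, -⟩ := exists_isAffineOpen_mem_and_subset (x := f x.1) (U := ⊤) trivial
    obtain ⟨W, hW, hxW, hWle⟩ := exists_isAffineOpen_mem_and_subset (x := x.1) (U := V ⊓ f ⁻¹ᵁ U)
      ⟨x.2, hxU⟩
    exact ⟨W, hxW, (le_inf_iff.1 hWle).1,
      (app_eq_zero_iff hE hF v f hU hW (le_inf_iff.1 hWle).2).2 (h ⟨U, hU⟩ ⟨W, hW⟩ _)⟩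
  choose W hxW hWV hW using key
  refine TopCat.Sheaf.eq_of_locally_eq' (⟨N.presheaf, N.isSheaf⟩ : TopCat.Sheaf Ab T) W V
    (fun x => homOfLE (hWV x)) (fun x hx => Opens.mem_iSup.2 ⟨⟨x, hx⟩, hxW _⟩) _ _ fun x => ?_
  show N.presheaf.map (homOfLE (hWV x)).op _ = N.presheaf.map (homOfLE (hWV x)).op _
  rw [← QCoh.map_app_comm, hW x]
  exact (map_zero (N.presheaf.map (homOfLE (hWV x)).op).hom).symm

theorem exists_ideal [Coh.IsQCoh E] (hF : FlatMod.IsFinLocFree F) (v : E ⟶ F) :
    ∃ I : S.IdealSheafData, ∀ (T : Scheme.{u}) (f : T ⟶ S),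
      (∃ g : T ⟶ I.subscheme, g ≫ I.subschemeι = f) ↔ (Scheme.Modules.pullback f).map v = 0 := by
  have hE : Coh.IsQCoh E := ‹_›
  have loc : ∀ (U V : S.affineOpens) (hVU : V.1 ≤ U.1) (C : CommRingCat.{u}) (χ : Γ(S, V.1) ⟶ C),
      coordIdeal v V ≤ RingHom.ker χ.hom ↔
        (coordIdeal v U).map (S.presheaf.map (homOfLE hVU).op).hom ≤ RingHom.ker χ.hom := by
    intro U V hVU C χ
    let p : Spec C ⟶ S := Spec.map χ ≫ V.2.fromSpec
    have hle : ⊤ ≤ p ⁻¹ᵁ V.1 := fun z _ => by
      have : V.2.fromSpec (Spec.map χ z) ∈ Set.range V.2.fromSpec := ⟨_, rfl⟩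
      rwa [V.2.range_fromSpec] at this
    have hval : ∀ a, (p.appLE V.1 ⊤ hle).hom a = (Scheme.ΓSpecIso C).inv.hom (χ.hom a) := by
      intro a
      have h1 : (Spec.map (p.appLE V.1 ⊤ hle)) ≫ V.2.fromSpec =
          (isAffineOpen_top (Spec C)).fromSpec ≫ p :=
        IsAffineOpen.SpecMap_appLE_fromSpec p V.2 (isAffineOpen_top _) hle
      rw [IsAffineOpen.fromSpec_top, Scheme.isoSpec_Spec_inv] at h1
      simp only [p, ← Category.assoc, cancel_mono, ← Spec.map_comp] at h1
      exact congrArg (fun k => k.hom a) (Spec.map_injective h1)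
    have hinj : ∀ I : Ideal Γ(S, V.1),
        (I ≤ RingHom.ker (p.appLE V.1 ⊤ hle).hom ↔ I ≤ RingHom.ker χ.hom) := fun I => by
      refine forall₂_congr fun a _ => ?_
      simp only [RingHom.mem_ker, hval]
      exact ⟨fun h => (ConcreteCategory.bijective_of_isIso (Scheme.ΓSpecIso C).inv).1
        (h.trans (map_zero (Scheme.ΓSpecIso C).inv.hom).symm), fun h => by rw [h, map_zero]⟩
    have hle' : ⊤ ≤ p ⁻¹ᵁ U.1 := hle.trans (Scheme.Hom.preimage_mono p hVU)
    rw [← hinj, ← hinj, ← app_eq_zero_iff hE hF v p V.2 (isAffineOpen_top _) hle,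
      app_eq_zero_iff hE hF v p U.2 (isAffineOpen_top _) hle', Ideal.map_le_iff_le_comap,
      RingHom.comap_ker, ← CommRingCat.hom_comp, Scheme.Hom.map_appLE]
  let I : S.IdealSheafData :=
    { ideal := fun U => coordIdeal v U
      map_ideal_basicOpen := fun U r => by
        let V := S.affineBasicOpen r
        have key := loc U V (S.basicOpen_le r)
        refine le_antisymm ?_ ?_
        · have := (key (.of (Γ(S, V.1) ⧸ coordIdeal v V))
            (CommRingCat.ofHom (Ideal.Quotient.mk _))).1 (by simp [Ideal.mk_ker])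
          simpa [Ideal.mk_ker] using this
        · have := (key (.of (Γ(S, V.1) ⧸ (coordIdeal v U).map (S.presheaf.map (homOfLE (S.basicOpen_le r)).op).hom))
            (CommRingCat.ofHom (Ideal.Quotient.mk _))).2 (by simp [Ideal.mk_ker])
          simpa [Ideal.mk_ker] using this }
  refine ⟨I, fun T f => ?_⟩
  rw [pullback_map_eq_zero_iff hE hF]
  constructor
  · rintro ⟨g, rfl⟩ U W hle
    intro a ha
    have : (I.subschemeι.app U.1).hom a = 0 := by
      rw [← RingHom.mem_ker, Scheme.IdealSheafData.ker_subschemeι_app]; exact ha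
    rw [RingHom.mem_ker, ← Scheme.Hom.appLE_comp_appLE g I.subschemeι U.1 (I.subschemeι ⁻¹ᵁ U.1) W.1 le_rfl hle,
      CommRingCat.hom_comp, RingHom.comp_apply, ← Scheme.Hom.app_eq_appLE, this, map_zero]
  · intro h
    have hle : I.subschemeι.ker ≤ f.ker := by
      rw [Scheme.IdealSheafData.ker_subschemeι]
      refine Scheme.IdealSheafData.le_ofIdeals_iff.mpr fun U x hx => RingHom.mem_ker.mpr ?_
      refine T.IsSheaf.section_ext fun t ht => ?_
      obtain ⟨W, hW, htW, hWle⟩ := exists_isAffineOpen_mem_and_subset (show t ∈ f ⁻¹ᵁ U.1 from ht)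
      refine ⟨W, hWle, htW, ?_⟩
      rw [map_zero, ← RingHom.mem_ker.mp (h U ⟨W, hW⟩ hWle hx)]
      rfl
    exact ⟨IsClosedImmersion.lift I.subschemeι f hle, IsClosedImmersion.lift_fac _ _ _⟩

end RepFZero
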